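import Mathlib
import Cfsg.Agent.Base
import Cfsg.Agent.Lib.VSt.CR
import Cfsg.Agent.Lib.KCl.ACT
import Cfsg.Agent.Lib.KCl.SQ
import Cfsg.Agent.Lib.KCl.GEN
import Cfsg.Agent.Lib.KCl.DIM

/-! The quasi-primitive case: the symplectic section and derived lengths. -/

set_option autoImplicit false
set_option linter.unusedSectionVars false
set_option linter.style.haveILetI false

universe u

namespace H90.VS

open Subgroup MulAction H83.Base
open scoped commutatorElement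

theorem FS.act {G : Type u} [Group G] [Finite G] {K : Type*} [Field K] [Finite K] {Λ S B : Subgroup G}
    (h : Pre K Λ S) [B.Normal] (hΛ : B ≤ Λ) (hS : S ≤ B)
    (hc : ∀ x ∈ B, ∀ y ∈ B, ⁅x, y⁆ ∈ S) (hcen : ∀ g ∈ Λ, (∀ x ∈ B, Commute g x) → g ∈ S) :
    ∃ (Q W : Type u) (_ : Group Q) (_ : Finite Q) (_ : AddCommGroup W) (_ : Finite W)
      (_ : DistribMulAction Q W) (_ : FaithfulSMul Q W) (ψ : G →* Q)
      (β : W →+ W →+ Additive Kˣ), Function.Surjective ψ ∧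
      (∀ U : AddSubgroup W, Invt Q U → ∃ U' : AddSubgroup W, Invt Q U' ∧ U ⊓ U' = ⊥ ∧ U ⊔ U' = ⊤) ∧
      Nat.card W = S.relIndex B ∧ Nat.card (Λ.map ψ) = B.relIndex Λ ∧ (∀ x, β x x = 0) ∧
      (∀ x, (∀ y, β x y = 0) → x = 0) ∧ (∀ g ∈ Λ.map ψ, ∀ x y, β (g • x) (g • y) = β x y) ∧
      ∀ g ∈ Λ, ψ g = 1 → g ∈ B := by
  haveI := h.nS
  haveI := h.nΛ
  obtain ⟨W, _, _, _, π, hπ, hmul, h0, hsm, hW⟩ := H90.KC.ACT.exists_W S B hc
  obtain ⟨Q, _, _, _, ψ, hψ, hψs, hf⟩ := H90.KC.exists_faithful G W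
  have hone : π 1 = 0 := (h0 1).2 (one_mem _)
  have hinv : ∀ a, π a⁻¹ = -π a := fun a => by
    rw [eq_neg_iff_add_eq_zero, ← hmul, inv_mul_cancel, hone]
  have heq : ∀ a b, π a = π b ↔ (a⁻¹ * b : B).1 ∈ S := fun a b => by
    rw [← h0, hmul, hinv, neg_add_eq_zero]
  obtain ⟨χ, hχ⟩ := h.emb
  let χ' := χ.toHomUnits
  have hχ' : Function.Injective χ' := fun a b e => hχ (congrArg Units.val e)
  let f : B → B → Kˣ := fun a b => χ' ⟨⁅a.1, b.1⁆, hc _ a.2 _ b.2⟩
  have f1 : ∀ a b, f a b = 1 ↔ Commute a.1 b.1 := fun a b => by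
    rw [← commutatorElement_eq_one_iff_commute, ← map_one χ', hχ'.eq_iff, Subtype.ext_iff]; rfl
  have fr : ∀ a b c, f a (b * c) = f a b * f a c := fun a b c => by
    simp only [f]
    rw [← map_mul]; congr 1
    exact Subtype.ext (H5.commutator_mul_right_of_commute (h.cen _ (hc _ a.2 _ c.2) _ (hΛ b.2)))
  have fl : ∀ a b c, f (a * b) c = f a c * f b c := fun a b c => by
    simp only [f]
    rw [mul_comm, ← map_mul]; congr 1
    exact Subtype.ext (H5.commutator_mul_left_of_commute (h.cen _ (hc _ b.2 _ c.2) _ (hΛ a.2)))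
  choose s hs' using hπ
  let β0 : W → W → Additive Kˣ := fun x y => Additive.ofMul (f (s x) (s y))
  have hβ0 : ∀ a b, β0 (π a) (π b) = Additive.ofMul (f a b) := fun a b => by
    have e1 := (heq _ _).1 (hs' (π a))
    have e2 := (heq _ _).1 (hs' (π b))
    simp only [β0]
    conv_rhs => rw [← mul_inv_cancel_left (s (π a)) a, ← mul_inv_cancel_left (s (π b)) b, fl,
      (f1 _ _).2 (h.cen _ e1 _ (hΛ (Subtype.prop _))).symm, mul_one, fr,
      (f1 _ _).2 (h.cen _ e2 _ (hΛ (Subtype.prop _))), mul_one]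
  let β : W →+ W →+ Additive Kˣ := AddMonoidHom.mk' (fun x => AddMonoidHom.mk' (β0 x) fun y z => by
      rw [← hs' x, ← hs' y, ← hs' z, ← hmul, hβ0, hβ0, hβ0, fr, ofMul_mul]) fun x y => by
    ext z : 1
    change β0 (x + y) z = β0 x z + β0 y z
    rw [← hs' x, ← hs' y, ← hs' z, ← hmul, hβ0, hβ0, hβ0, fl, ofMul_mul]
  have hβ : ∀ a b, β (π a) (π b) = Additive.ofMul (f a b) := hβ0
  have triv : ∀ g : G, ψ g = 1 ↔ ∀ b ∈ B, ⁅g, b⁆ ∈ S := fun g => by
    have key : ∀ b : B, g • π b = π b ↔ ⁅g, b.1⁆ ∈ S := fun b => by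
      rw [hsm, eq_comm, heq, coe_mul, ← ‹S.Normal›.mem_comm_iff]
      simp [commutatorElement_def]
    constructor
    · intro e b hb
      rw [← key ⟨b, hb⟩, ← hψs, e, one_smul]
    · intro e
      refine FaithfulSMul.eq_of_smul_eq_smul (α := W) fun w => ?_
      rw [one_smul, hψs, ← hs' w, key]
      exact e _ (s w).2
  refine ⟨Q, W, inferInstance, inferInstance, inferInstance, inferInstance, inferInstance, hf,
    ψ, β, hψ, fun U hU => ?_, hW, ?_, fun x => ?_, fun x hx => ?_, ?_,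
    fun g hg e => H90.KC.mem_B h hΛ hS hc hcen hg ((triv g).1 e)⟩
  · let D : Subgroup G :=
      { carrier := {g | ∃ hg : g ∈ B, π ⟨g, hg⟩ ∈ U}
        mul_mem' := fun {a b} ⟨ha, ha'⟩ ⟨hb, hb'⟩ => ⟨mul_mem ha hb, by
          have := add_mem ha' hb'
          rwa [← hmul] at this⟩
        one_mem' := ⟨one_mem _, by
          have : π 1 ∈ U := by rw [hone]; exact zero_mem _
          exact this⟩
        inv_mem' := fun {a} ⟨ha, ha'⟩ => ⟨inv_mem ha, by
          have := neg_mem ha'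
          rwa [← hinv] at this⟩ }
    have hDB : D ≤ B := fun _ hx => hx.1
    have mD : ∀ b : B, b.1 ∈ D ↔ π b ∈ U := fun b => ⟨fun h => h.2, fun h => ⟨b.2, h⟩⟩
    haveI hD : D.Normal := ⟨fun x ⟨hx, hx'⟩ g => (mD (MulAut.conjNormal g ⟨x, hx⟩)).2 (by
      rw [← hsm, ← hψs]; exact hU _ _ hx')⟩
    let U' : AddSubgroup W :=
      { carrier := {w | ∃ b : B, (∀ y ∈ D, Commute b.1 y) ∧ π b = w}
        add_mem' := by
          rintro _ _ ⟨a, ha, rfl⟩ ⟨b, hb, rfl⟩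
          exact ⟨a * b, fun y hy => (ha y hy).mul_left (hb y hy), hmul a b⟩
        zero_mem' := ⟨1, fun y _ => Commute.one_left y, hone⟩
        neg_mem' := by
          rintro _ ⟨a, ha, rfl⟩
          exact ⟨a⁻¹, fun y hy => (ha y hy).inv_left, hinv a⟩ }
    refine ⟨U', ?_, ?_, ?_⟩
    · rintro q _ ⟨b, hb, rfl⟩
      obtain ⟨g, rfl⟩ := hψ q
      refine ⟨MulAut.conjNormal g b, fun y hy => ?_, by rw [hψs, hsm]⟩
      have := hb _ (hD.conj_mem y hy g⁻¹)
      change g * b * g⁻¹ * y = y * (g * b * g⁻¹)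
      calc g * b * g⁻¹ * y = g * (b * (g⁻¹ * y * g⁻¹⁻¹)) * g⁻¹ := by group
        _ = _ := by rw [this.eq]; group
    · rw [eq_bot_iff]
      rintro _ ⟨hw, b, hb, rfl⟩
      exact AddSubgroup.mem_bot.2 ((h0 b).2 (h.rad (hDB.trans hΛ) ((mD b).2 hw) hb))
    · rw [eq_top_iff]
      intro w _
      obtain ⟨d, hd, hd'⟩ := h.split hΛ hc hDB (s w).2
      rw [← hs' w, ← mul_inv_cancel_left ⟨d, hDB hd⟩ (s w), hmul]
      exact AddSubgroup.add_mem_sup hd.2 ⟨_, hd', rfl⟩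
  · have e1 : (ψ.comp Λ.subtype).ker = B.subgroupOf Λ := by
      ext g
      rw [MonoidHom.mem_ker, mem_subgroupOf]
      exact (triv g).trans ⟨H90.KC.mem_B h hΛ hS hc hcen g.2, fun hg b hb => hc _ hg _ hb⟩
    rw [relIndex, ← e1, index_ker, MonoidHom.range_comp, range_subtype]
  · rw [← hs' x, hβ, (f1 _ _).2 (Commute.refl _)]; rfl
  · rw [← hs' x, h0]
    refine h.rad hΛ (s x).2 fun y hy => (f1 _ ⟨y, hy⟩).1 ?_
    have := hx (π ⟨y, hy⟩)
    rw [← hs' x, hβ] at this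
    exact this
  · rintro _ ⟨g, hg, rfl⟩ x y
    rw [← hs' x, ← hs' y, hψs, hψs, hsm, hsm, hβ, hβ]
    refine congrArg (fun t => Additive.ofMul (χ' t)) (Subtype.ext ?_)
    change ⁅g * (s x).1 * g⁻¹, g * (s y).1 * g⁻¹⁆ = ⁅(s x).1, (s y).1⁆
    rw [← conjugate_commutatorElement, (h.cen _ (hc _ (s x).2 _ (s y).2) g hg).eq,
      mul_inv_cancel_right]

variable {G V K : Type u} [Group G] [Finite G] [AddCommGroup V] [Finite V] [Nontrivial V]
  [DistribMulAction G V] [FaithfulSMul G V] [Field K] [Finite K] [Module K V] {B : Subgroup G}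

theorem Fc.act (c : Fc K V B) :
    ∃ (Q W : Type u) (_ : Group Q) (_ : Finite Q) (_ : AddCommGroup W) (_ : Finite W)
      (_ : DistribMulAction Q W) (_ : FaithfulSMul Q W) (ψ : G →* Q)
      (β : W →+ W →+ Additive Kˣ), Function.Surjective ψ ∧
      (∀ U : AddSubgroup W, Invt Q U → ∃ U' : AddSubgroup W, Invt Q U' ∧ U ⊓ U' = ⊥ ∧ U ⊔ U' = ⊤) ∧
      Nat.card W = (ScalS G K V).relIndex B ∧
      Nat.card ((LinS G K V).map ψ) = B.relIndex (LinS G K V) ∧ (∀ x, β x x = 0) ∧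
      (∀ x, (∀ y, β x y = 0) → x = 0) ∧
      (∀ g ∈ (LinS G K V).map ψ, ∀ x y, β (g • x) (g • y) = β x y) ∧
      ∀ g ∈ LinS G K V, ψ g = 1 → g ∈ B :=
  haveI := c.normal
  FS.act c.pre c.le c.sle c.comm c.cen

theorem Fc.ds_one_le (c : Fc K V B) : ds (⊤ : Subgroup G) 1 ≤ LinS G K V := by
  choose σ hσ using c.semi
  obtain ⟨θ, -, hθ⟩ := exists_gen K
  obtain ⟨w, hw⟩ := exists_ne (0 : V)
  have inj : ∀ {g : G} {k l : K}, (∀ v : V, k • g • v = l • g • v) → k = l := fun {g k l} h =>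
    smul_left_injective K ((smul_ne_zero_iff_ne g).2 hw) (h w)
  have h0 : ∀ g, σ g 0 = 0 := fun g => inj (g := g) fun v => by rw [← hσ]; simp
  have hp : ∀ g k (n : ℕ), σ g (k ^ n) = σ g k ^ n := fun g k n => by
    induction n with
    | zero => exact inj (g := g) fun v => by rw [← hσ]; simp
    | succ n ih => exact inj (g := g) fun v => by rw [← hσ, pow_succ, pow_succ, mul_smul, mul_smul, hσ, hσ, ih]
  have hpow : ∀ g, ∃ n : ℕ, ∀ k, σ g k = k ^ (n + 1) := fun g => by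
    by_cases hz : σ g θ = 0
    · have h1 : θ = 0 := by
        have := hσ g θ w
        rw [hz, zero_smul, smul_eq_zero_iff_eq, smul_eq_zero] at this
        exact this.resolve_right hw
      refine ⟨0, fun k => ?_⟩
      by_cases hk : k = 0
      · simp [hk, h0]
      · obtain ⟨m, rfl⟩ := hθ k hk
        rw [hp, hz, h1, zero_add, pow_one]
    obtain ⟨n, hn⟩ := hθ _ hz
    letI := Fintype.ofFinite K
    refine ⟨n + (Fintype.card K - 2), fun k => ?_⟩
    by_cases hk : k = 0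
    · simp [hk, h0]
    have h2 := Fintype.one_lt_card (α := K)
    rw [show n + (Fintype.card K - 2) + 1 = n + (Fintype.card K - 1) by omega, pow_add,
      FiniteField.pow_card_sub_one_eq_one k hk, mul_one]
    obtain ⟨m, rfl⟩ := hθ k hk
    rw [hp, hn, ← pow_mul, ← pow_mul, mul_comm]
  rw [ds_one, commutator_le]
  intro g _ h _ k v
  obtain ⟨n, hn⟩ := hpow g⁻¹
  obtain ⟨m, hm⟩ := hpow h⁻¹
  have e : (h * g)⁻¹ • k • v = (g * h)⁻¹ • k • ⁅g, h⁆ • v := by
    rw [commutatorElement_def]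
    simp only [mul_inv_rev, mul_smul]
    simp only [hσ, hn, hm, inv_smul_smul, ← pow_mul, mul_comm]
  rw [← smul_inv_smul (g * h) (k • ⁅g, h⁆ • v), ← e, ← mul_smul, commutatorElement_def]
  congr 1
  group

theorem Fc.two_pow_index (c : Fc K V B) : 2 ^ (LinS G K V).index ≤ Nat.card K := by
  obtain ⟨p, hp⟩ := CharP.exists K
  haveI : Fact p.Prime := ⟨CharP.char_is_prime K p⟩
  letI : Algebra (ZMod p) K := ZMod.algebra K p
  letI : Module (ZMod p) V := Module.compHom V (algebraMap (ZMod p) K)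
  haveI : IsScalarTower (ZMod p) K V := ⟨fun a k v => by
    rw [Algebra.smul_def, mul_smul]; rfl⟩
  haveI : SMulCommClass G (ZMod p) V := ⟨fun g a v =>
    ((DistribSMul.toAddMonoidHom V g).toZModLinearMap p).map_smul a v⟩
  rw [Module.natCard_eq_pow_finrank (K := ZMod p), Nat.card_zmod]
  exact (Nat.pow_le_pow_right two_pos (H90.KC.index_lin_le (ZMod p) c.semi)).trans
    (Nat.pow_le_pow_left (Fact.out : p.Prime).two_le _)

theorem Fc.num (c : Fc K V B) : ∃ e : ℕ, (ScalS G K V).relIndex B = e ^ 2 ∧ 1 ≤ e ∧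
    e ≤ Module.finrank K V ∧ (∀ r : ℕ, r.Prime → r ∣ e → r ∣ Nat.card K - 1) ∧
    B.relIndex (LinS G K V) ≤ e ^ 6 ∧ (e = 1 → LinS G K V = ScalS G K V) := by
  obtain ⟨Q, W, _, _, _, _, _, _, ψ, β, hψ, hcr, hW, hQ, alt, nd, -, -⟩ := c.act
  obtain ⟨e, he⟩ := H90.KC.sq_card β alt nd
  haveI := c.solv
  refine ⟨e, hW ▸ he, ?_, ?_, fun r hr h => ?_, ?_, ?_⟩
  · refine Nat.pos_of_ne_zero ?_
    rintro rfl
    exact Nat.card_pos.ne' he
  · have := H90.KC.relIndex_le_sq c.le c.comm fun g hg => c.cen g (c.le hg)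
    rw [← hW, he] at this
    exact (Nat.pow_le_pow_iff_left two_ne_zero).1 this
  · exact H90.KC.dvd_card_sub_one β nd hr (he ▸ h.pow two_ne_zero)
  · have := H90.KC.card_le_cube (Group.isSolvable_of_surjective hψ) hcr
    rw [he, ← pow_mul] at this
    exact hQ ▸ (card_le_card_group _).trans this
  · rintro rfl
    have hB : B ≤ ScalS G K V := relIndex_eq_one.1 (hW ▸ he)
    exact le_antisymm (fun g hg => c.cen g hg fun x hx => c.pre.cen x (hB hx) g hg) c.pre.le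

theorem Fc.tr_S (c : Fc K V B) {H : Subgroup G} {j : ℕ} (h : ds H j ≤ ScalS G K V) : Tr H (j + 1) V := by
  have : ds H (j + 1) ≤ ⊥ := by
    rw [ds_succ, commutator_le]
    exact fun a ha b hb => commutatorElement_eq_one_iff_commute.2 (c.pre.cen b (h hb) a (c.pre.le (h ha)))
  intro g hg x
  rw [mem_bot.1 (this hg), one_smul]

theorem Fc.tr (c : Fc K V B) {N j : ℕ} (h : LP.{u} N j) (hj : 1 ≤ j)
    (hN : (ScalS G K V).relIndex B ≤ N) :
    (∀ v : V, v ≠ 0 → Tr (stabilizer G v) (j + 1) V) ∧ Tr (⊤ : Subgroup G) (j + 2) V := by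
  obtain ⟨Q, W, _, _, _, _, _, _, ψ, β, hψ, hcr, hW, -, -, -, -, hk⟩ := c.act
  haveI := c.solv
  have h1 := h.cr (Group.isSolvable_of_surjective hψ) hcr (hW ▸ hN)
  have h2 : ds (⊤ : Subgroup G) j ≤ B := fun g hg => hk g (c.ds_one_le (ds_anti _ hj hg))
    (FaithfulSMul.eq_of_smul_eq_smul (α := W) fun w => by
      rw [one_smul]
      exact h1 _ (ds_mono le_top j (map_ds ψ ⊤ j ▸ mem_map_of_mem ψ hg)) w)
  have h3 : ds (⊤ : Subgroup G) (j + 1) ≤ ScalS G K V := by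
    rw [ds_succ, commutator_le]
    exact fun a ha b hb => c.comm a (h2 ha) b (h2 hb)
  refine ⟨fun v hv g hg x => ?_, c.tr_S h3⟩
  rw [scal_eq_one (h3 (ds_mono le_top _ hg)) hv (ds_le _ _ hg), one_smul]

theorem Fc.tr_one (c : Fc K V B) (h : LinS G K V = ScalS G K V) : Tr (⊤ : Subgroup G) 2 V :=
  c.tr_S (h ▸ c.ds_one_le)

theorem Fc.tr_free (c : Fc K V B) {v : V} (h : ∀ x ∈ LinS G K V, x • v = v → x = 1) :
    Tr (stabilizer G v) 1 V := fun g hg x => by
  rw [h g (c.ds_one_le (ds_mono le_top 1 hg)) (ds_le _ _ hg), one_smul]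

end H90.VS
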