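import Mathlib
import Cfsg.Agent.Base
import Cfsg.Agent.Lib.VSt.PI
import Cfsg.Agent.Lib.VSt.DI2
import Cfsg.Agent.Lib.VSt.TRF
import Cfsg.Agent.Lib.VSt.FS

set_option autoImplicit false
set_option linter.unusedSectionVars false

universe u

namespace H90.VS

open Subgroup MulAction H83.Base
open scoped commutatorElement

namespace LB

theorem exp_le {a u m N : ℕ} (b : ℕ) (ha : a ≤ u) (h : u ^ m ≤ N) (h1 : 1 < a) (hb : N < a ^ (b + 1)) :
    m ≤ b := by
  have := ((Nat.pow_le_pow_left ha m).trans h).trans_lt hb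
  exact Nat.lt_succ_iff.1 ((Nat.pow_lt_pow_iff_right h1).1 this)

theorem base_le {u m N : ℕ} (b : ℕ) (hm : 2 ≤ m) (h : u ^ m ≤ N) (hb : N < (b + 1) ^ 2) : u ≤ b := by
  by_contra k
  have h1 : (b + 1) ^ 2 ≤ u ^ 2 := Nat.pow_le_pow_left (by omega) 2
  have h2 : u ^ 2 ≤ u ^ m := Nat.pow_le_pow_right (by omega) hm
  omega

theorem step {N j : ℕ} (hj : 2 ≤ j)
    (hF : ∀ e, 2 ≤ e → 3 ^ e ≤ N → ∃ N' j', LP.{u} N' j' ∧ 1 ≤ j' ∧ e ^ 2 ≤ N' ∧ j' + 2 ≤ j)
    (hS : ∀ a m, 2 ≤ a → 2 ≤ m → a ^ m ≤ N →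
      ∃ m' k a' j', PP.{u} m' k ∧ LP.{u} a' j' ∧ m ≤ m' ∧ a ≤ a' ∧ k + j' ≤ j) : LP.{u} N j := by
  intro G V _ _ _ _ _ hs hi hV
  obtain ⟨H, _, _, _, ψ, h1, h2, _⟩ := H90.KC.exists_faithful G V
  refine Tr.of_hom ψ h2 (fun _ _ => mem_top _) ?_
  have hs' : Group.IsSolvable H := Group.isSolvable_of_surjective h1
  have hi' : Irr H V := ⟨hi.1, fun U hU => hi.2 U fun g v hv => h2 g v ▸ hU (ψ g) v hv⟩
  have := hi.1
  rcases dich2 hi' with ⟨K, _, _, _, semi, hab⟩ | ⟨M, π, hM, hπ⟩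
  · obtain ⟨B, c⟩ := exists_fc hs' semi hab
    obtain ⟨e, e1, e2, e3, e4, -, e5⟩ := c.num
    rcases e2.eq_or_lt with rfl | e2
    · exact (c.tr_one (e5 rfl)).mono le_rfl hj
    · have k1 : 3 ≤ Nat.card K := by
        have a1 := e4 _ (Nat.minFac_prime e2.ne') (Nat.minFac_dvd e)
        have a2 : 1 < Nat.card K := Finite.one_lt_card
        by_contra a3
        rw [show Nat.card K - 1 = 1 by omega, Nat.dvd_one] at a1
        exact (Nat.minFac_prime e2.ne').ne_one a1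
      have k2 : 3 ^ e ≤ N := by
        have : Module.Finite K V := Module.Finite.of_finite
        refine le_trans ?_ hV
        rw [Module.natCard_eq_pow_finrank (K := K) (V := V)]
        exact (Nat.pow_le_pow_left k1 e).trans (Nat.pow_le_pow_right (by omega) e3)
      obtain ⟨N', j', a1, a2, a3, a4⟩ := hF e e2 k2
      exact (c.tr a1 a2 (e1 ▸ a3)).2.mono le_rfl a4
  · obtain ⟨U, _, _, _, u1, u2, u3, -⟩ := hπ.block hi'
    have := u1.1
    have m2 : 2 ≤ M.index := by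
      have a1 : M.index ≠ 0 := index_ne_zero_of_finite
      have a2 : M.index ≠ 1 := fun e => hM.1 (index_eq_one.1 e)
      omega
    obtain ⟨m', k, a', j', a1, a2, a3, a4, a5⟩ := hS _ _ Finite.one_lt_card m2 (u2 ▸ hV)
    exact (u3 j' k (a1 H _ hs' a3) (a2 M U inferInstance u1 a4)).mono le_rfl a5

/-- the action on the non-zero vectors -/
theorem of_pp {m k : ℕ} (h : PP.{u} m k) : LP.{u} (m + 1) k := by
  intro G V _ _ _ _ _ hs _ hV g hg x
  by_cases hx : x = 0
  · rw [hx, smul_zero]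
  refine h.set hs ⊤ {(0 : V)}ᶜ (fun g _ x hx => ?_) ?_ g hg x hx
  · exact fun e => hx ((smul_eq_zero_iff_eq g).1 e)
  · have := Set.ncard_add_ncard_compl ({0} : Set V)
    rw [Set.ncard_singleton] at this
    omega

end LB

open LB

theorem lp0 : LP.{u} 2 0 := of_pp pp0

theorem lp1 : LP.{u} 3 1 := of_pp pp1

theorem lp2 : LP.{u} 8 2 := by
  refine step le_rfl (fun e h1 h2 => ?_) fun a m h1 h2 h3 => ?_
  · have := exp_le 1 le_rfl h2 (by decide) (by decide); omega
  · exact ⟨3, 2, 2, 0, pp2, lp0, exp_le 3 h1 h3 (by decide) (by decide),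
      base_le 2 h2 h3 (by decide), le_rfl⟩

theorem lp4 : LP.{u} 26 4 := by
  refine step (by decide) (fun e h1 h2 => ?_) fun a m h1 h2 h3 => ?_
  · have := exp_le 2 le_rfl h2 (by decide) (by decide)
    exact ⟨8, 2, lp2, by decide, by nlinarith, le_rfl⟩
  · by_cases c : a ≤ 2
    · exact ⟨7, 3, 2, 0, pp3, lp0, exp_le 7 h1 h3 (by decide) (by decide), c, by decide⟩
    · exact ⟨2, 1, 8, 2, pp1, lp2, exp_le (a := 3) 2 (by omega) h3 (by decide) (by decide),
        base_le 8 h2 h3 (by decide), by decide⟩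

theorem lp6 : LP.{u} 625 6 := by
  refine step (by decide) (fun e h1 h2 => ?_) fun a m h1 h2 h3 => ?_
  · have := exp_le 5 le_rfl h2 (by decide) (by decide)
    exact ⟨26, 4, lp4, by decide, by nlinarith, le_rfl⟩
  · by_cases c : a ≤ 2
    · exact ⟨15, 5, 2, 0, pp5, lp0, exp_le 15 h1 h3 (by decide) (by decide), c, by decide⟩
    by_cases c' : a ≤ 8
    · exact ⟨7, 3, 8, 2, pp3, lp2, exp_le (a := 3) 7 (by omega) h3 (by decide) (by decide), c',
        by decide⟩
    · exact ⟨2, 1, 26, 4, pp1, lp4, exp_le (a := 9) 2 (by omega) h3 (by decide) (by decide),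
        base_le 26 h2 h3 (by decide), by decide⟩

theorem lp8 : LP.{u} 59048 8 := by
  refine step (by decide) (fun e h1 h2 => ?_) fun a m h1 h2 h3 => ?_
  · have := exp_le 9 le_rfl h2 (by decide) (by decide)
    exact ⟨625, 6, lp6, by decide, by nlinarith, le_rfl⟩
  · by_cases c : a ≤ 8
    · exact ⟨15, 5, 8, 2, pp5, lp2, exp_le 15 h1 h3 (by decide) (by decide), c, by decide⟩
    by_cases c' : a ≤ 26
    · exact ⟨7, 3, 26, 4, pp3, lp4, exp_le (a := 9) 7 (by omega) h3 (by decide) (by decide), c',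
        by decide⟩
    · exact ⟨3, 2, 625, 6, pp2, lp6, exp_le (a := 27) 3 (by omega) h3 (by decide) (by decide),
        base_le 625 h2 h3 (by decide), by decide⟩

end H90.VS
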