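import Mathlib
import Cfsg.Agent.Base
import Cfsg.Agent.Lib.VSt.LB
import Cfsg.Agent.Lib.VSt.EIG
import Cfsg.Agent.Lib.VSt.AR
import Cfsg.Agent.S3360

set_option autoImplicit false
set_option linter.unusedSectionVars false

universe u

namespace H90.VS

open Subgroup MulAction H83.Base
open scoped commutatorElement

namespace P1F

theorem aut_comm {F : Type*} [Field F] [Finite F] (σ τ : F ≃+* F) (x : F) :
    σ (τ x) = τ (σ x) := by
  obtain ⟨θ, hθ⟩ := IsCyclic.exists_monoid_generator (α := Fˣ)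
  have key : ∀ y : F, y ≠ 0 → ∃ n : ℕ, y = (θ : F) ^ n := fun y hy => by
    obtain ⟨n, hn⟩ := hθ (Units.mk0 y hy)
    exact ⟨n, by have := congrArg Units.val hn; simpa using this.symm⟩
  by_cases hx : x = 0
  · simp [hx]
  obtain ⟨k, rfl⟩ := key x hx
  obtain ⟨n, hn⟩ := key (σ θ) (by simp)
  obtain ⟨m, hm⟩ := key (τ θ) (by simp)
  simp only [map_pow, hn, hm, ← pow_mul]
  congr 1
  ring

theorem tr_semi {G V F : Type*} [Group G] [AddCommGroup V] [DistribMulAction G V]
    [FaithfulSMul G V] [Field F] [Finite F] (e : V ≃+ F)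
    (h : ∀ g : G, ∃ (a : F) (σ : F ≃+* F), ∀ v : V, e (g • v) = a * σ (e v)) :
    Tr (⊤ : Subgroup G) 2 V := by
  choose a σ h using h
  have ha : ∀ g, a g ≠ 0 := fun g h0 => by
    have h1 := h g (e.symm 1)
    rw [h0, zero_mul, map_eq_zero_iff e e.injective, smul_eq_zero_iff_eq,
      map_eq_zero_iff e.symm e.symm.injective] at h1
    exact one_ne_zero h1
  have hm : ∀ g k x, σ (g * k) x = σ g (σ k x) := fun g k x => by
    have h1 : ∀ y : F, a (g * k) * σ (g * k) y = a g * σ g (a k) * σ g (σ k y) := fun y => by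
      have := h (g * k) (e.symm y)
      rw [mul_smul, h, h, e.apply_symm_apply, map_mul] at this
      rw [← this, mul_assoc]
    have h2 := h1 1
    simp only [map_one, mul_one] at h2
    have h3 := h1 x
    rw [← h2] at h3
    exact mul_left_cancel₀ (ha _) h3
  let Φ : G →* RingAut F := MonoidHom.mk' σ fun g k => RingEquiv.ext fun x => hm g k x
  have h1 : ds (⊤ : Subgroup G) 1 ≤ Φ.ker := by
    rw [ds_one]
    refine commutator_le.2 fun g _ k _ => ?_
    rw [MonoidHom.mem_ker, map_commutatorElement, commutatorElement_eq_one_iff_mul_comm]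
    exact RingEquiv.ext fun x => aut_comm _ _ x
  have h2 : ∀ g ∈ Φ.ker, ∀ v, e (g • v) = a g * e v := fun g hg v => by
    have : σ g = 1 := hg
    rw [h, this]; rfl
  have h3 : ds (⊤ : Subgroup G) 2 ≤ ⊥ := by
    rw [ds_succ]
    refine commutator_le.2 fun g hg k hk => ?_
    rw [mem_bot, commutatorElement_eq_one_iff_mul_comm]
    refine FaithfulSMul.eq_of_smul_eq_smul (α := V) fun v => e.injective ?_
    rw [mul_smul, mul_smul, h2 g (h1 hg), h2 k (h1 hk), h2 k (h1 hk), h2 g (h1 hg)]
    ring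
  intro g hg x
  rw [mem_bot.1 (h3 hg), one_smul]

theorem exists_rho {G V : Type*} [Group G] [AddCommGroup V] [DistribMulAction G V]
    [FaithfulSMul G V] (p : ℕ) [Module (ZMod p) V] : ∃ ρ : G →* (V ≃ₗ[ZMod p] V),
    Function.Injective ρ ∧ ∀ g v, ρ g v = g • v := by
  let r : G → (V ≃ₗ[ZMod p] V) := fun g =>
    { toFun := fun v => g • v
      invFun := fun v => g⁻¹ • v
      map_add' := smul_add g
      map_smul' := fun c v => ZMod.map_smul (DistribSMul.toAddMonoidHom V g) c v
      left_inv := inv_smul_smul g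
      right_inv := smul_inv_smul g }
  have hr : ∀ (g : G) (v : V), r g v = g • v := fun _ _ => rfl
  refine ⟨MonoidHom.mk' r fun g k => LinearEquiv.ext fun v => ?_, fun g k e => ?_, hr⟩
  · rw [LinearEquiv.mul_apply, hr, hr, hr, mul_smul]
  · exact FaithfulSMul.eq_of_smul_eq_smul (α := V) fun v =>
      congrArg (fun f : V ≃ₗ[ZMod p] V => f v) e

end P1F

theorem trans_case {G V : Type u} [Group G] [Finite G] [AddCommGroup V] [Finite V]
    [DistribMulAction G V] [FaithfulSMul G V] (hs : Group.IsSolvable G) (hi : Irr G V)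
    (htr : ∀ v w : V, v ≠ 0 → w ≠ 0 → ∃ g : G, g • v = w) : Mo 6 2 G V := by
  haveI := hi.1
  have key : Tr (⊤ : Subgroup G) 6 V := by
    obtain ⟨p, k, hp, hpv, -⟩ := exists_prime hi
    haveI : Fact p.Prime := ⟨hp⟩
    letI : Module (ZMod p) V := AddCommGroup.zmodModule hpv
    obtain ⟨ρ, hρ, hr⟩ := P1F.exists_rho (G := G) (V := V) p
    rcases Cfsg.Agent.S3360.result p hs ρ hρ (by simpa only [hr] using htr) with ⟨F, _, _, e, h⟩ | h
    · exact (P1F.tr_semi e (by simpa only [hr] using h)).mono le_rfl (by norm_num)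
    · refine lp6 G V hs hi ?_
      simp only [Set.mem_insert_iff, Set.mem_singleton_iff] at h
      omega
  obtain ⟨v, hv⟩ := exists_ne (0 : V)
  refine ⟨![0, v], fun g c c' e => ?_, fun c => key.mono le_top le_rfl⟩
  fin_cases c <;> fin_cases c'
  · rfl
  · exact absurd (by simpa using e.symm) hv
  · exact absurd ((smul_eq_zero_iff_eq g).1 e) hv
  · rfl

variable {G V K : Type u} [Group G] [Finite G] [AddCommGroup V] [Finite V] [Nontrivial V]
  [DistribMulAction G V] [FaithfulSMul G V] [Field K] [Finite K] [Module K V] {B : Subgroup G}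

theorem Fc.one (c : Fc K V B) {v w : V} (hv : v ≠ 0) (hw : w ≠ 0) (hvw : ∀ g : G, g • v ≠ w) :
    Mo 9 5 G V ∨ Mo 8 3 G V := by
  obtain ⟨e, he, h1, hd, hq, hf, -⟩ := c.num
  by_cases h25 : e ≤ 25
  · right
    obtain ⟨t1, t2⟩ := c.tr lp6 (by norm_num) (by rw [he]; nlinarith)
    refine ⟨![0, v, w], fun g a a' h => ?_, fun a => t2.mono le_top le_rfl⟩
    fin_cases a <;> fin_cases a'
    · rfl
    · exact absurd (by simpa using h.symm) hv
    · exact absurd (by simpa using h.symm) hw
    · exact absurd ((smul_eq_zero_iff_eq g).1 h) hv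
    · rfl
    · exact absurd h (hvw g)
    · exact absurd ((smul_eq_zero_iff_eq g).1 h) hw
    · exact absurd (by rw [inv_smul_eq_iff]; exact h.symm) (hvw g⁻¹)
    · rfl
  left
  have hK : 1 < Nat.card K := Finite.one_lt_card
  have hq3 : 3 ≤ Nat.card K := by
    obtain ⟨r, hr, hre⟩ := Nat.exists_prime_and_dvd (n := e) (by omega)
    have := Nat.le_of_dvd (by omega) (hq r hr hre)
    have := hr.two_le
    omega
  have hrel : (ScalS G K V).relIndex (LinS G K V) ≤ e ^ 8 := by
    rw [← relIndex_mul_relIndex _ B _ c.sle c.le, he]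
    calc e ^ 2 * B.relIndex (LinS G K V) ≤ e ^ 2 * e ^ 6 := Nat.mul_le_mul_left _ hf
      _ = e ^ 8 := by ring
  have hS : Nat.card (ScalS G K V) ≤ Nat.card K - 1 :=
    Nat.le_of_dvd (by omega) H90.KC.card_scal_dvd
  have hG : Nat.card G ≤ (LinS G K V).index * ((Nat.card K - 1) * e ^ 8) := by
    rw [← (ScalS G K V).card_mul_index, ← relIndex_mul_index (c.sle.trans c.le)]
    calc _ ≤ (Nat.card K - 1) * (e ^ 8 * (LinS G K V).index) :=
          Nat.mul_le_mul hS (Nat.mul_le_mul_right _ hrel)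
      _ = _ := by ring
  have hV : Nat.card V = Nat.card K ^ Module.finrank K V := Module.natCard_eq_pow_finrank
  by_cases h242 : e ≤ 242
  · obtain ⟨t1, -⟩ := c.tr lp8 (by norm_num) (by rw [he]; nlinarith)
    refine mo_of_card (t := 4) {x : V | x ≠ 0} t1 ?_
    have h3 := ar26 hq3 c.two_pow_index (by omega) hd hG
    have h4 : ({x : V | x ≠ 0} : Set V).ncard = Nat.card V - 1 := by
      have : ({x : V | x ≠ 0} : Set V) = Set.univ \ {0} := by ext; simp
      rw [this, Set.ncard_sdiff_singleton_of_mem (Set.mem_univ _), Set.ncard_univ]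
    omega
  · obtain ⟨T, hT1, hT2, hT3, -⟩ := c.exists_T
    have h3 := c.good_card (r := 2) (fun s hs _ => hs.two_le) le_rfl rfl T hT1 hT2
    have h4 := ar243 hq3 c.two_pow_index (by omega) hd hG (hT3.trans hrel)
    refine mo_of_card (t := 4) {v : V | v ≠ 0 ∧ ∀ x ∈ LinS G K V, x • v = v → x = 1}
      (fun x hx => (c.tr_free hx.2).mono le_rfl (by norm_num)) ?_
    omega

end H90.VS
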