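import Mathlib
import Cfsg.Agent.Base
import Cfsg.Agent.Lib.VSt.FS
import Cfsg.Agent.Lib.VSt.EIG
import Cfsg.Agent.Lib.VSt.FB
import Cfsg.Agent.Lib.VSt.AR

/-! # VSt, package P2F: the quasi-primitive case for groups of odd order -/

set_option autoImplicit false
set_option linter.unusedSectionVars false

universe u

namespace H90.VS

open Subgroup MulAction H83.Base
open scoped commutatorElement

variable {G V K : Type u} [Group G] [Finite G] [AddCommGroup V] [Finite V] [Nontrivial V]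
  [DistribMulAction G V] [FaithfulSMul G V] [Field K] [Finite K] [Module K V] {B : Subgroup G}

theorem Fc.two (c : Fc K V B) (ho : Odd (Nat.card G)) (hV : Odd (Nat.card V)) : Mo 1 1 G V := by
  suffices h : ∃ v : V, ∀ x ∈ LinS G K V, x • v = v → x = 1 from
    h.elim fun v hv => ⟨fun _ => v, fun _ _ _ _ => Subsingleton.elim _ _, fun _ => c.tr_free hv⟩
  have od : ∀ X Y : Subgroup G, Odd (X.relIndex Y) := fun X Y =>
    ho.of_dvd_nat ((index_dvd_card _).trans (card_subgroup_dvd_card Y))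
  obtain ⟨e, he, h1, hd, hp, -, hs⟩ := c.num
  have eo : Odd e := (od _ _).of_dvd_nat (he ▸ dvd_pow_self e two_ne_zero)
  by_cases e1 : e = 1
  · obtain ⟨v, hv⟩ := exists_ne (0 : V)
    exact ⟨v, fun x hx h => scal_eq_one (hs e1 ▸ hx) hv h⟩
  have e3 : 3 ≤ e := by obtain ⟨k, rfl⟩ := eo; omega
  obtain ⟨Q, W, _, _, _, _, _, _, ψ, β, sj, cr, cW, cQ, alt, nd, inv, -⟩ := c.act
  rw [he] at cW
  haveI := c.solv
  have Qs : Group.IsSolvable Q := Group.isSolvable_of_surjective sj
  have Qo : Odd (Nat.card Q) := ho.of_dvd_nat (card_dvd_of_surjective ψ sj)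
  haveI : ((LinS G K V).map ψ).Normal := c.pre.nΛ.map ψ sj
  have fQ : B.relIndex (LinS G K V) ≤ Nat.card Q := cQ ▸ card_le_card_group _
  obtain ⟨T, t1, t2, -, t4⟩ := c.exists_T
  have t5 := t4 (od _ _)
  rw [← relIndex_mul_relIndex _ _ _ c.sle c.le, he] at t5
  have hr : ∀ s : ℕ, s.Prime → s ∣ (ScalS G K V).relIndex B → (if 3 ∣ e then 3 else 5) ≤ s := by
    intro s h2 h3
    have h4 := h2.dvd_of_dvd_pow (he ▸ h3)
    obtain ⟨k, rfl⟩ := eo.of_dvd_nat h4
    have := h2.two_le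
    split_ifs with h
    · omega
    · have : k ≠ 1 := fun a => h (by simpa [a] using h4)
      omega
  have g := c.good_card hr (by split_ifs <;> omega) rfl T t1 t2
  have cV : Nat.card V = Nat.card K ^ Module.finrank K V := Module.natCard_eq_pow_finrank
  letI := Fintype.ofFinite K
  have a := ar_odd (q := Nat.card K) (d := Module.finrank K V) (f := B.relIndex (LinS G K V))
    (Nat.card_eq_fintype_card (α := K) ▸ FiniteField.isPrimePow_card K)
    ((Nat.odd_pow_iff (by omega)).1 (cV ▸ hV)) eo e3 hd rfl hp t5 (fun r' h => ?_)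
    (fun h => fQ.trans (fb_9 Qo cr (by rw [cW, h]; rfl)))
    (fun h => fQ.trans (fb_25 Qo cr (by rw [cW, h]; rfl)))
    (fun h => cQ ▸ fb_81 Qo cr _ β alt nd inv (by rw [cW, h]; rfl))
  · obtain ⟨v, -, hv⟩ := Set.nonempty_of_ncard_ne_zero
      (s := {v : V | v ≠ 0 ∧ ∀ x ∈ LinS G K V, x • v = v → x = 1}) (by rw [← cV] at a; omega)
    exact ⟨v, hv⟩
  · have := fb_gen Qs Qo cr _ β nd inv (cW ▸ eo.pow) (by rw [cW]; nlinarith)
      fun s h2 h3 => h s h2 (h2.dvd_of_dvd_pow (cW ▸ h3))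
    rwa [cW, cQ] at this

end H90.VS
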