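import Mathlib
import Cfsg.Agent.Base
import Cfsg.Agent.Lib.VSt.CO2
import Cfsg.Agent.Lib.VSt.CO3
import Cfsg.Agent.Lib.VSt.DI2
import Cfsg.Agent.Lib.VSt.TRF
import Cfsg.Agent.Lib.VSt.CR
import Cfsg.Agent.Lib.VSt.P1F
import Cfsg.Agent.Lib.VSt.P2F

/-! Vector stabilisers of small derived length: the two inductions (helper90). -/

set_option autoImplicit false
set_option linter.unusedSectionVars false

universe u

namespace H90.VS

open Subgroup MulAction H83.Base
open scoped commutatorElement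

theorem irr_of_surj {G H V : Type*} [Group G] [Group H] [AddCommGroup V] [DistribMulAction G V]
    [DistribMulAction H V] (ψ : G →* H) (hψ : ∀ g (v : V), ψ g • v = g • v) (hi : Irr G V) :
    Irr H V :=
  ⟨hi.1, fun U hU => hi.2 U fun g v hv => hψ g v ▸ hU _ v hv⟩

theorem card_lt_of_pow {U V : Type*} [AddCommGroup U] [Finite U] [Nontrivial U] {m : ℕ}
    (hm : 2 ≤ m) (h : Nat.card V = Nat.card U ^ m) : Nat.card U < Nat.card V := by
  have h1 : 1 < Nat.card U := Finite.one_lt_card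
  rw [h]
  calc Nat.card U = Nat.card U ^ 1 := (pow_one _).symm
    _ < _ := Nat.pow_lt_pow_right h1 hm

theorem two_le_index {G : Type*} [Group G] [Finite G] {M : Subgroup G} (hM : IsCoatom M) :
    2 ≤ M.index := by
  have h0 : M.index ≠ 0 := index_ne_zero_of_finite
  have h1 : M.index ≠ 1 := fun h => hM.1 (index_eq_one.1 h)
  omega

theorem main_one (n : ℕ) : ∀ (G V : Type u) [Group G] [Finite G] [AddCommGroup V] [Finite V]
    [DistribMulAction G V], Group.IsSolvable G → Irr G V → Nat.card V = n →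
      Mo 9 5 G V ∨ Mo 8 3 G V ∨ Mo 6 2 G V := by
  induction n using Nat.strong_induction_on with
  | _ n ih =>
  intro G₀ V _ _ _ _ _ hs₀ hi₀ hn
  obtain ⟨G, _, _, _, ψ, hψ, hψv, _⟩ := H90.KC.exists_faithful G₀ V
  have hs : Group.IsSolvable G := Group.isSolvable_of_surjective hψ
  have hi : Irr G V := irr_of_surj ψ hψv hi₀
  suffices h : Mo 9 5 G V ∨ Mo 8 3 G V ∨ Mo 6 2 G V from
    h.imp (·.of_hom ψ hψv) (·.imp (·.of_hom ψ hψv) (·.of_hom ψ hψv))
  haveI := hi.1
  by_cases htr : ∀ v w : V, v ≠ 0 → w ≠ 0 → ∃ g : G, g • v = w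
  · exact Or.inr (Or.inr (trans_case hs hi htr))
  push Not at htr
  obtain ⟨v, w, hv, hw, hvw⟩ := htr
  rcases dich2 hi with ⟨K, _, _, _, semi, hab⟩ | ⟨M, π, hM, hS⟩
  · obtain ⟨B, c⟩ := exists_fc hs semi hab
    exact (c.one hv hw hvw).imp_right Or.inl
  obtain ⟨U, _, _, _, hiU, hc, -, hT⟩ := hS.block hi
  haveI := hiU.1
  have hx : IsCoatom (stabilizer G ((1 : G) : G ⧸ M)) := by rwa [stabilizer_quotient]
  rcases ih _ (hn ▸ card_lt_of_pow (two_le_index hM) hc) M U inferInstance hiU rfl with h | h | h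
  · exact Or.inl (hT 9 0 5 5 (co_five hs _ hx) h)
  · exact Or.inl (hT 8 1 3 5 (co_three hs _ hx) h)
  · exact (co_two hs _ hx).imp (fun h' => hT 6 3 2 5 h' h) fun h' => Or.inl (hT 6 2 2 3 h' h)

theorem main_two (n : ℕ) : ∀ (G V : Type u) [Group G] [Finite G] [AddCommGroup V] [Finite V]
    [DistribMulAction G V], Group.IsSolvable G → Irr G V → Odd (Nat.card G) → Odd (Nat.card V) →
      Nat.card V = n → Mo 1 1 G V := by
  induction n using Nat.strong_induction_on with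
  | _ n ih =>
  intro G₀ V _ _ _ _ _ hs₀ hi₀ ho₀ hV hn
  obtain ⟨G, _, _, _, ψ, hψ, hψv, _⟩ := H90.KC.exists_faithful G₀ V
  have hs : Group.IsSolvable G := Group.isSolvable_of_surjective hψ
  have hi : Irr G V := irr_of_surj ψ hψv hi₀
  have ho : Odd (Nat.card G) := ho₀.of_dvd_nat (card_dvd_of_surjective ψ hψ)
  refine Mo.of_hom ψ hψv ?_
  haveI := hi.1
  rcases dich2 hi with ⟨K, _, _, _, semi, hab⟩ | ⟨M, π, hM, hS⟩
  · obtain ⟨B, c⟩ := exists_fc hs semi hab
    exact c.two ho hV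
  obtain ⟨U, _, _, _, hiU, hc, -, hT⟩ := hS.block hi
  haveI := hiU.1
  have h2 := two_le_index hM
  have hoM : Odd (Nat.card M) := ho.of_dvd_nat (card_subgroup_dvd_card M)
  have hU : Odd (Nat.card U) := hV.of_dvd_nat (hc ▸ dvd_pow_self _ (by omega))
  exact hT 1 0 2 1 (co_odd hs ho)
    (mo_two hoM hU (ih _ (hn ▸ card_lt_of_pow h2 hc) M U inferInstance hiU hoM hU rfl))

theorem cr_one {G : Type*} {V : Type u} [Group G] [Finite G] [AddCommGroup V] [Finite V]
    [DistribMulAction G V] (hs : Group.IsSolvable G)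
    (hcr : ∀ U : AddSubgroup V, Invt G U →
      ∃ U' : AddSubgroup V, Invt G U' ∧ U ⊓ U' = ⊥ ∧ U ⊔ U' = ⊤) :
    Mo 9 1 G V ∧ (Odd (Nat.card G) → Odd (Nat.card V) → Mo 1 1 G V) := by
  obtain ⟨H, _, _, _, ψ, hψ, hψv, _⟩ := H90.KC.exists_faithful G V
  have hsH : Group.IsSolvable H := Group.isSolvable_of_surjective hψ
  have hcr' : ∀ U : AddSubgroup V, Invt H U →
      ∃ U' : AddSubgroup V, Invt H U' ∧ U ⊓ U' = ⊥ ∧ U ⊔ U' = ⊤ := fun U hU => by
    obtain ⟨U', h1, h2⟩ := hcr U fun g v hv => hψv g v ▸ hU _ v hv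
    refine ⟨U', fun g v hv => ?_, h2⟩
    obtain ⟨g, rfl⟩ := hψ g
    rw [hψv]; exact h1 g v hv
  refine ⟨Mo.of_hom ψ hψv (mo_of_cr hcr' fun U hU hi => ?_),
    fun ho hV => Mo.of_hom ψ hψv (mo_of_cr hcr' fun U hU hi => ?_)⟩
  · letI := subAct H U hU
    rcases main_one _ H U hsH hi rfl with h | h | h <;> exact h.mono (by omega) (by omega)
  · letI := subAct H U hU
    exact main_two _ H U hsH hi (ho.of_dvd_nat (card_dvd_of_surjective ψ hψ))
      (hV.of_dvd_nat (AddSubgroup.card_addSubgroup_dvd_card U)) rfl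

theorem Tr.eq_bot {G V : Type*} [Group G] [MulAction G V] [FaithfulSMul G V] {H : Subgroup G}
    {j : ℕ} (h : Tr H j V) : derivedSeries H j = ⊥ := by
  have : ds H j = ⊥ := eq_bot_iff.2 fun g hg => mem_bot.2 <|
    FaithfulSMul.eq_of_smul_eq_smul (α := V) fun v => by rw [h g hg v, one_smul]
  rwa [ds_eq_map, map_eq_bot_iff_of_injective _ H.subtype_injective] at this

end H90.VS
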